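import Mathlib

/-!
# Inverse limits of adic systems of modules `M n = M (n+1) / I ^ (n+1)`
-/

set_option autoImplicit false

namespace Groth.Agent.InvSys

universe u v

variable {A : Type u} [CommRing A] {I : Ideal A}
  {M : ℕ → Type v} [∀ n, AddCommGroup (M n)] [∀ n, Module A (M n)]
  {f : ∀ n, M (n + 1) →ₗ[A] M n} {L : Type v} [AddCommGroup L] [Module A L] {π : ∀ n, L →ₗ[A] M n}

theorem map_of_le (hπ : ∀ n, f n ∘ₗ π (n + 1) = π n) {x : L} {k n : ℕ} (h : k ≤ n) (hx : π n x = 0) :
    π k x = 0 := by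
  induction n with
  | zero => obtain rfl := Nat.le_zero.1 h; exact hx
  | succ n ih =>
    rcases Nat.of_le_succ h with h | rfl
    · exact ih h (by rw [← hπ n, LinearMap.comp_apply, hx, map_zero])
    · exact hx

theorem surjective_zero (hf : ∀ n, Function.Surjective (f n))
    (hlift : ∀ y : (∀ n, M n), (∀ n, f n (y (n + 1)) = y n) → ∃ x : L, ∀ n, π n x = y n) :
    Function.Surjective (π 0) := fun z => by
  obtain ⟨x, hx⟩ := hlift (fun n => Nat.rec z (fun n yn => (hf n yn).choose) n)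
    fun n => (hf n _).choose_spec
  exact ⟨x, hx 0⟩

variable (hf : ∀ n, Function.Surjective (f n))
  (hk : ∀ n, I ^ (n + 1) • (⊤ : Submodule A (M n)) = ⊥)
  (hker : ∀ n, LinearMap.ker (f n) = I ^ (n + 1) • (⊤ : Submodule A (M (n + 1))))
  (hπ : ∀ n, f n ∘ₗ π (n + 1) = π n)
  (hinj : ∀ x : L, (∀ n, π n x = 0) → x = 0)
  (hlift : ∀ y : (∀ n, M n), (∀ n, f n (y (n + 1)) = y n) → ∃ x : L, ∀ n, π n x = y n)

include hf hk hker hπ hlift in
theorem exists_gens (h0 : Module.Finite A (M 0)) :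
    ∃ (m : ℕ) (G : (Fin m → A) →ₗ[A] L), ∀ n, Function.Surjective (π n ∘ₗ G) := by
  obtain ⟨m, q, hq⟩ := Module.Finite.exists_fin' A (M 0)
  choose x hx using fun i => surjective_zero hf hlift (q (Pi.single i 1))
  let G : (Fin m → A) →ₗ[A] L := Fintype.linearCombination A x
  have hG0 : π 0 ∘ₗ G = q := by
    refine LinearMap.pi_ext' fun i => LinearMap.ext_ring ?_
    simp only [LinearMap.comp_apply, LinearMap.coe_single, G]
    rw [Fintype.linearCombination_apply_single, one_smul, hx]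
  refine ⟨m, G, fun n => ?_⟩
  induction n with
  | zero => rw [hG0]; exact hq
  | succ n ih =>
    rw [← LinearMap.range_eq_top]
    set K := LinearMap.range (π (n + 1) ∘ₗ G) with hKdef
    have hsup : (⊤ : Submodule A (M (n + 1))) ≤ K ⊔ I ^ (n + 1) • ⊤ := by
      intro y _
      obtain ⟨c, hc⟩ := ih (f n y)
      have h1 : y - π (n + 1) (G c) ∈ LinearMap.ker (f n) := by
        rw [LinearMap.mem_ker, map_sub, ← LinearMap.comp_apply (f := f n), hπ, sub_eq_zero]
        exact hc.symm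
      rw [hker] at h1
      rw [show y = π (n + 1) (G c) + (y - π (n + 1) (G c)) by abel]
      exact Submodule.add_mem_sup ⟨c, rfl⟩ h1
    refine top_le_iff.1 (hsup.trans (sup_le le_rfl ?_))
    calc I ^ (n + 1) • (⊤ : Submodule A (M (n + 1)))
        ≤ I ^ (n + 1) • (K ⊔ I ^ (n + 1) • ⊤) := Submodule.smul_mono le_rfl hsup
      _ ≤ K := by
        rw [Submodule.smul_sup]
        refine sup_le Submodule.smul_le_right ?_
        rw [← Submodule.mul_smul, ← pow_add]
        exact (Submodule.smul_mono_left (Ideal.pow_le_pow_right (by omega))).trans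
          (le_of_eq_of_le (hk (n + 1)) bot_le)

theorem mem_pow_smul_top_pi {m k : ℕ} {c : Fin m → A} :
    c ∈ (I ^ k • ⊤ : Submodule A (Fin m → A)) ↔ ∀ i, c i ∈ I ^ k := by
  constructor
  · intro hv i
    refine Submodule.smul_induction_on hv (fun a ha w _ => ?_) (fun x y hx hy => add_mem hx hy)
    exact Ideal.mul_mem_right _ _ ha
  · intro hv
    rw [← Finset.univ_sum_single c]
    refine sum_mem fun i _ => ?_
    rw [show Pi.single i (c i) = c i • (Pi.single i (1 : A) : Fin m → A) by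
      rw [← Pi.single_smul, smul_eq_mul, mul_one]]
    exact Submodule.smul_mem_smul (hv i) trivial

include hk hker hπ hinj in
/-- Successive approximation. -/
theorem exists_small_preimage [IsAdicComplete I A] {m : ℕ} {G : (Fin m → A) →ₗ[A] L}
    (hG : ∀ n, Function.Surjective (π n ∘ₗ G)) (n₀ : ℕ) (x : L) (hx : π n₀ x = 0) :
    ∃ c : Fin m → A, G c = x ∧ c ∈ (I ^ (n₀ + 1) • ⊤ : Submodule A (Fin m → A)) := by
  classical
  have step : ∀ (n : ℕ) (y : L), π n y = 0 →
      ∃ d : Fin m → A, d ∈ (I ^ (n + 1) • ⊤ : Submodule A (Fin m → A)) ∧ π (n + 1) (y - G d) = 0 := by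
    intro n y hy
    have h1 : π (n + 1) y ∈ LinearMap.ker (f n) := by
      rw [LinearMap.mem_ker, ← LinearMap.comp_apply (f := f n), hπ, hy]
    rw [hker, ← LinearMap.range_eq_top.2 (hG (n + 1)), ← Submodule.map_top, ← Submodule.map_smul''] at h1
    obtain ⟨d, hd, hdy⟩ := h1
    exact ⟨d, hd, by rw [map_sub, sub_eq_zero]; exact hdy.symm⟩
  choose d hd hd' using step
  let T : ∀ j : ℕ, {c : Fin m → A // π (n₀ + j) (x - G c) = 0} := fun j => Nat.rec
    ⟨0, by rw [map_zero, sub_zero]; exact hx⟩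
    (fun j c => ⟨c.1 + d (n₀ + j) _ c.2, by rw [map_add, sub_add_eq_sub_sub]; exact hd' _ _ c.2⟩) j
  have hT : ∀ j, (T (j + 1)).1 - (T j).1 ∈ (I ^ (n₀ + j + 1) • ⊤ : Submodule A (Fin m → A)) :=
    fun j => by
      show (T j).1 + d (n₀ + j) _ (T j).2 - (T j).1 ∈ _
      rw [add_sub_cancel_left]
      exact hd _ _ _
  have hmono : ∀ {a b : ℕ}, a ≤ b →
      (T b).1 - (T a).1 ∈ (I ^ (n₀ + a + 1) • ⊤ : Submodule A (Fin m → A)) := by
    intro a b hab
    induction hab with
    | refl => simp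
    | @step b hab ih =>
      rw [show (T (b + 1)).1 - (T a).1 = ((T (b + 1)).1 - (T b).1) + ((T b).1 - (T a).1) by abel]
      exact add_mem (Submodule.smul_mono_left (Ideal.pow_le_pow_right
        (by have : a ≤ b := hab; omega)) (hT b)) ih
  have hcau : ∀ i, ∀ {a b : ℕ}, a ≤ b →
      (T a).1 i ≡ (T b).1 i [SMOD (I ^ a • ⊤ : Submodule A A)] := fun i {a b} hab => by
    rw [SModEq.sub_mem, smul_eq_mul, Ideal.mul_top, ← neg_sub]
    exact neg_mem (Ideal.pow_le_pow_right (by omega) (mem_pow_smul_top_pi.1 (hmono hab) i))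
  choose c hc using fun i => IsPrecomplete.prec (I := I) (M := A) inferInstance (hcau i)
  have hc' : ∀ j, c - (T j).1 ∈ (I ^ j • ⊤ : Submodule A (Fin m → A)) := fun j =>
    mem_pow_smul_top_pi.2 fun i => by
      have := SModEq.sub_mem.1 (hc i j)
      rw [smul_eq_mul, Ideal.mul_top] at this
      simpa using neg_mem this
  refine ⟨c, ?_, ?_⟩
  · refine (sub_eq_zero.1 (hinj _ fun k => ?_)).symm
    have h1 : π k (x - G (T (k + 1)).1) = 0 := map_of_le hπ (by omega) (T (k + 1)).2
    rw [show x - G c = (x - G (T (k + 1)).1) - G (c - (T (k + 1)).1) by rw [map_sub]; abel, map_sub,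
      h1, zero_sub, neg_eq_zero]
    have := Submodule.mem_map_of_mem (f := π k ∘ₗ G) (hc' (k + 1))
    rw [Submodule.map_smul''] at this
    exact (Submodule.mem_bot A).1 (hk k ▸ Submodule.smul_mono le_rfl le_top this)
  · have h1 := hmono (Nat.zero_le (n₀ + 1))
    rw [show (T 0).1 = 0 from rfl, sub_zero] at h1
    rw [show c = (c - (T (n₀ + 1)).1) + (T (n₀ + 1)).1 by abel]
    exact add_mem (hc' _) h1

include hk hker hπ hinj in
theorem surjective_of_gens [IsAdicComplete I A] {m : ℕ} {G : (Fin m → A) →ₗ[A] L}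
    (hG : ∀ n, Function.Surjective (π n ∘ₗ G)) : Function.Surjective G := fun x => by
  obtain ⟨c, hc⟩ := hG 0 (π 0 x)
  obtain ⟨d, hd, -⟩ := exists_small_preimage hk hker hπ hinj hG 0 (x - G c) (by
    rw [map_sub, sub_eq_zero]; exact hc.symm)
  exact ⟨c + d, by rw [map_add, hd]; abel⟩

include hf hk hker hπ hinj hlift in
theorem main [IsAdicComplete I A] (h0 : Module.Finite A (M 0)) :
    Module.Finite A L ∧ IsAdicComplete I L ∧
      ∀ n, Function.Surjective (π n) ∧ LinearMap.ker (π n) = I ^ (n + 1) • (⊤ : Submodule A L) := by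
  obtain ⟨m, G, hG⟩ := exists_gens hf hk hker hπ hlift h0
  have hle : ∀ n, I ^ (n + 1) • (⊤ : Submodule A L) ≤ LinearMap.ker (π n) := fun n => by
    rw [LinearMap.le_ker_iff_map, Submodule.map_smul'', eq_bot_iff, ← hk n]
    exact Submodule.smul_mono le_rfl le_top
  have hkerπ : ∀ n, LinearMap.ker (π n) = I ^ (n + 1) • (⊤ : Submodule A L) := fun n => by
    refine le_antisymm (fun x hx => ?_) (hle n)
    obtain ⟨c, rfl, hc⟩ := exists_small_preimage hk hker hπ hinj hG n x hx
    have := Submodule.mem_map_of_mem (f := G) hc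
    rw [Submodule.map_smul''] at this
    exact Submodule.smul_mono le_rfl le_top this
  have hH : IsHausdorff I L := ⟨fun x hx => hinj x fun n => hle n (SModEq.zero.1 (hx (n + 1)))⟩
  have hP : IsPrecomplete I L := by
    refine ⟨fun s hs => ?_⟩
    obtain ⟨x, hx⟩ := hlift (fun n => π n (s (n + 1))) fun n => by
      show f n (π (n + 1) (s (n + 1 + 1))) = π n (s (n + 1))
      rw [← LinearMap.comp_apply (f := f n), hπ, ← sub_eq_zero, ← map_sub]
      have h := SModEq.sub_mem.1 (hs (Nat.le_succ (n + 1)))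
      rw [← neg_sub, map_neg, neg_eq_zero]
      exact hle n h
    refine ⟨x, fun k => ?_⟩
    rw [SModEq.sub_mem]
    cases k with
    | zero => simp
    | succ n =>
      rw [← hkerπ n, LinearMap.mem_ker, map_sub, hx n, sub_self]
  exact ⟨Module.Finite.of_surjective G (surjective_of_gens hk hker hπ hinj hG), { }, fun n =>
    ⟨Function.Surjective.of_comp (g := G) (hG n), hkerπ n⟩⟩

section Proj

/-- Maps out of a direct summand of a free `A ⧸ J`-module lift along surjections of modules killed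
by `J`. -/
theorem exists_lift {J : Ideal A} {P : Type v} [AddCommGroup P] [Module A P] {k : ℕ}
    (i : P →ₗ[A] (Fin k → A ⧸ J)) (r : (Fin k → A ⧸ J) →ₗ[A] P) (hri : r ∘ₗ i = LinearMap.id)
    {X : Type*} [AddCommGroup X] [Module A X] {Y : Type*} [AddCommGroup Y] [Module A Y]
    (q : X →ₗ[A] Y) (hq : Function.Surjective q) (hX : ∀ a ∈ J, ∀ x : X, a • x = 0)
    (h : P →ₗ[A] Y) : ∃ h' : P →ₗ[A] X, q ∘ₗ h' = h := by
  classical
  choose x hx using fun j => hq (h (r (Pi.single j 1)))
  let φ : Fin k → ((A ⧸ J) →ₗ[A] X) := fun j => Submodule.liftQ J (LinearMap.toSpanSingleton A X (x j))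
    fun a ha => LinearMap.mem_ker.2 (hX a ha (x j))
  let Φ : (Fin k → A ⧸ J) →ₗ[A] X := ∑ j, φ j ∘ₗ LinearMap.proj j
  have hΦ : q ∘ₗ Φ = h ∘ₗ r := by
    refine LinearMap.pi_ext' fun j => ?_
    refine LinearMap.ext fun a => ?_
    obtain ⟨a, rfl⟩ := Submodule.mkQ_surjective J a
    have e1 : Φ (Pi.single j (J.mkQ a)) = a • x j := by
      rw [LinearMap.sum_apply, Finset.sum_eq_single j]
      · show φ j ((Pi.single j (J.mkQ a) : Fin k → A ⧸ J) j) = _
        rw [Pi.single_eq_same]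
        rfl
      · intro l _ hl; simp [hl]
      · simp
    have e2 : (Pi.single j (J.mkQ a) : Fin k → A ⧸ J) = a • Pi.single j 1 := by
      rw [← Pi.single_smul, Algebra.smul_def, mul_one]; rfl
    simp only [LinearMap.comp_apply, LinearMap.coe_single]
    rw [e1, map_smul, hx, e2, map_smul, map_smul]
  refine ⟨Φ ∘ₗ i, ?_⟩
  rw [← LinearMap.comp_assoc, hΦ, LinearMap.comp_assoc, hri, LinearMap.comp_id]

include hf hk hker hπ hinj hlift in
theorem projective [IsAdicComplete I A]
    (hproj : ∀ n, ∃ (m : ℕ) (i : M n →ₗ[A] (Fin m → A ⧸ I ^ (n + 1)))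
      (r : (Fin m → A ⧸ I ^ (n + 1)) →ₗ[A] M n), r ∘ₗ i = LinearMap.id) :
    Module.Finite A L ∧ Module.Projective A L ∧
      ∀ n, Function.Surjective (π n) ∧ LinearMap.ker (π n) = I ^ (n + 1) • (⊤ : Submodule A L) := by
  classical
  have h0 : Module.Finite A (M 0) := by
    obtain ⟨m, i, r, hri⟩ := hproj 0
    exact Module.Finite.of_surjective r fun y => ⟨i y, LinearMap.congr_fun hri y⟩
  obtain ⟨hfin, -, hall⟩ := main hf hk hker hπ hinj hlift h0
  refine ⟨hfin, ?_, hall⟩
  obtain ⟨m, G, hG⟩ := exists_gens hf hk hker hπ hlift h0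
  let mk : ∀ n, (Fin m → A) →ₗ[A] (Fin m → A ⧸ I ^ (n + 1)) := fun n =>
    LinearMap.pi fun j => (I ^ (n + 1)).mkQ ∘ₗ LinearMap.proj j
  have hmk : ∀ n, Function.Surjective (mk n) := fun n w =>
    ⟨fun j => (Submodule.mkQ_surjective _ (w j)).choose,
      funext fun j => (Submodule.mkQ_surjective _ (w j)).choose_spec⟩
  have hkmk : ∀ n, LinearMap.ker (mk n) ≤ LinearMap.ker (π n ∘ₗ G) := fun n c hc => by
    have hc' : c ∈ (I ^ (n + 1) • ⊤ : Submodule A (Fin m → A)) :=
      mem_pow_smul_top_pi.2 fun j => (Submodule.Quotient.mk_eq_zero _).1 (congrFun hc j)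
    have := Submodule.mem_map_of_mem (f := π n ∘ₗ G) hc'
    rw [Submodule.map_smul''] at this
    exact (Submodule.mem_bot A).1 (hk n ▸ Submodule.smul_mono le_rfl le_top this)
  let Gb : ∀ n, (Fin m → A ⧸ I ^ (n + 1)) →ₗ[A] M n := fun n =>
    (Submodule.liftQ (LinearMap.ker (mk n)) (π n ∘ₗ G) (hkmk n)) ∘ₗ
      (LinearMap.quotKerEquivOfSurjective (mk n) (hmk n)).symm.toLinearMap
  have hGb : ∀ n c, Gb n (mk n c) = π n (G c) := fun n c => by
    show Submodule.liftQ _ (π n ∘ₗ G) (hkmk n) ((LinearMap.quotKerEquivOfSurjective (mk n) (hmk n)).symm (mk n c)) = _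
    rw [show (LinearMap.quotKerEquivOfSurjective (mk n) (hmk n)).symm (mk n c) =
      Submodule.Quotient.mk c from (LinearEquiv.symm_apply_eq _).2 rfl]
    rfl
  clear_value Gb
  have hGbs : ∀ n, Function.Surjective (Gb n) := fun n y => by
    obtain ⟨c, hc⟩ := hG n y
    exact ⟨mk n c, (hGb n c).trans hc⟩
  let red : ∀ n, (Fin m → A ⧸ I ^ (n + 1 + 1)) →ₗ[A] (Fin m → A ⧸ I ^ (n + 1)) := fun n =>
    LinearMap.pi fun j => (Submodule.factor (Ideal.pow_le_pow_right (Nat.le_succ (n + 1)))) ∘ₗ LinearMap.proj j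
  have hred : ∀ n c, red n (mk (n + 1) c) = mk n c := fun n c => funext fun j => rfl
  have hfG : ∀ n, f n ∘ₗ Gb (n + 1) = Gb n ∘ₗ red n := fun n => LinearMap.ext fun w => by
    obtain ⟨c, rfl⟩ := hmk (n + 1) w
    rw [LinearMap.comp_apply, LinearMap.comp_apply, hGb, hred, hGb, ← LinearMap.comp_apply (f := f n), hπ]
  have hkill : ∀ (n : ℕ) (a : A), a ∈ I ^ (n + 1) → ∀ w : Fin m → A ⧸ I ^ (n + 1), a • w = 0 :=
    fun n a ha w => funext fun j => by
      obtain ⟨b, hb⟩ := Submodule.mkQ_surjective _ (w j)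
      rw [Pi.smul_apply, ← hb, ← map_smul, Submodule.mkQ_apply, Pi.zero_apply,
        Submodule.Quotient.mk_eq_zero, smul_eq_mul]
      exact Ideal.mul_mem_right _ _ ha
  have step : ∀ (n : ℕ) (s : M n →ₗ[A] (Fin m → A ⧸ I ^ (n + 1))), Gb n ∘ₗ s = LinearMap.id →
      ∃ s' : M (n + 1) →ₗ[A] (Fin m → A ⧸ I ^ (n + 1 + 1)),
        Gb (n + 1) ∘ₗ s' = LinearMap.id ∧ red n ∘ₗ s' = s ∘ₗ f n := by
    intro n s hs
    obtain ⟨k, i, r, hri⟩ := hproj (n + 1)
    obtain ⟨h, hh⟩ := exists_lift i r hri (red n) (fun w => by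
      obtain ⟨c, rfl⟩ := hmk n w
      exact ⟨mk (n + 1) c, hred n c⟩) (hkill (n + 1)) (s ∘ₗ f n)
    let W : Submodule A (Fin m → A ⧸ I ^ (n + 1 + 1)) := I ^ (n + 1) • ⊤
    have hmap : W.map (Gb (n + 1)) = LinearMap.ker (f n) := by
      rw [hker, Submodule.map_smul'', Submodule.map_top, LinearMap.range_eq_top.2 (hGbs (n + 1))]
    let q : W →ₗ[A] LinearMap.ker (f n) := LinearMap.restrict (Gb (n + 1)) fun w hw =>
      hmap ▸ Submodule.mem_map_of_mem hw
    have hq : Function.Surjective q := fun y => by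
      obtain ⟨w, hw, hwy⟩ := (show (y : M (n + 1)) ∈ W.map (Gb (n + 1)) by rw [hmap]; exact y.2)
      exact ⟨⟨w, hw⟩, Subtype.ext hwy⟩
    let e : M (n + 1) →ₗ[A] LinearMap.ker (f n) := LinearMap.codRestrict _
      (LinearMap.id - Gb (n + 1) ∘ₗ h) fun y => by
        rw [LinearMap.mem_ker, LinearMap.sub_apply, LinearMap.id_apply, map_sub, LinearMap.comp_apply,
          ← LinearMap.comp_apply (f := f n), hfG, LinearMap.comp_apply, ← LinearMap.comp_apply (f := red n),
          hh, LinearMap.comp_apply, ← LinearMap.comp_apply (f := Gb n), hs, LinearMap.id_apply, sub_self]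
    obtain ⟨e', he'⟩ := exists_lift i r hri q hq (fun a ha w => Subtype.ext (hkill (n + 1) a ha w.1)) e
    refine ⟨h + W.subtype ∘ₗ e', LinearMap.ext fun y => ?_, LinearMap.ext fun y => ?_⟩
    · have := congrArg Subtype.val (LinearMap.congr_fun he' y)
      simp only [LinearMap.comp_apply, LinearMap.add_apply, map_add, LinearMap.id_apply,
        Submodule.subtype_apply]
      change Gb (n + 1) (e' y).1 = y - Gb (n + 1) (h y) at this
      rw [this]; abel
    · have hz : red n (e' y).1 = 0 := by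
        have h1 := Submodule.mem_map_of_mem (f := red n) (e' y).2
        rw [Submodule.map_smul''] at h1
        refine (Submodule.mem_bot A).1 (Submodule.smul_le.2 ?_ h1)
        intro a ha w _
        rw [Submodule.mem_bot]
        exact hkill n a ha w
      simp only [LinearMap.comp_apply, LinearMap.add_apply, map_add, Submodule.subtype_apply]
      rw [hz, add_zero]
      exact LinearMap.congr_fun hh y
  obtain ⟨k, i, r, hri⟩ := hproj 0
  obtain ⟨s₀, hs₀⟩ := exists_lift i r hri (Gb 0) (hGbs 0) (hkill 0) LinearMap.id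
  choose nxt hn1 hn2 using step
  let S : ∀ n, {s : M n →ₗ[A] (Fin m → A ⧸ I ^ (n + 1)) // Gb n ∘ₗ s = LinearMap.id} := fun n =>
    Nat.rec ⟨s₀, hs₀⟩ (fun n s => ⟨nxt n s.1 s.2, hn1 n s.1 s.2⟩) n
  have hS : ∀ n x, red n ((S (n + 1)).1 (π (n + 1) x)) = (S n).1 (π n x) := fun n x => by
    rw [← hπ n, LinearMap.comp_apply, ← LinearMap.comp_apply (f := (S n).1), ← hn2 n (S n).1 (S n).2]
    rfl
  have hex : ∀ x, ∃ c : Fin m → A, ∀ n, mk n c = (S n).1 (π n x) := by
    intro x
    choose a ha using fun n => hmk n ((S n).1 (π n x))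
    have hcau : ∀ j, ∀ {p q : ℕ}, p ≤ q → a p j ≡ a q j [SMOD (I ^ p • ⊤ : Submodule A A)] := by
      intro j p q hpq
      induction hpq with
      | refl => exact SModEq.refl _
      | @step q hpq ih =>
        refine ih.trans ?_
        rw [SModEq.sub_mem, smul_eq_mul, Ideal.mul_top]
        refine Ideal.pow_le_pow_right (Nat.le_succ_of_le hpq) ((Submodule.Quotient.eq _).1 ?_)
        have h1 := congrFun (hS q x) j
        rw [← ha (q + 1), hred, ← ha q] at h1
        exact h1.symm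
    choose c hc using fun j => IsPrecomplete.prec (I := I) (M := A) inferInstance (hcau j)
    refine ⟨c, fun n => ?_⟩
    rw [← ha n]
    refine funext fun j => (Submodule.Quotient.eq _).2 ?_
    have h1 := SModEq.sub_mem.1 (hc j (n + 1))
    rw [smul_eq_mul, Ideal.mul_top] at h1
    have h2 : a (n + 1) j - a n j ∈ I ^ (n + 1) := by
      refine (Submodule.Quotient.eq _).1 ?_
      have h3 := congrFun (hS n x) j
      rw [← ha (n + 1), hred, ← ha n] at h3
      exact h3
    show c j - a n j ∈ I ^ (n + 1)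
    rw [show c j - a n j = -(a (n + 1) j - c j) + (a (n + 1) j - a n j) by ring]
    exact add_mem (neg_mem h1) h2
  choose σ hσ using hex
  have huniq : ∀ c c' : Fin m → A, (∀ n, mk n c = mk n c') → c = c' := fun c c' h => funext fun j => by
    refine sub_eq_zero.1 (IsHausdorff.haus' (I := I) _ fun k => ?_)
    rw [SModEq.zero, smul_eq_mul, Ideal.mul_top]
    exact Ideal.pow_le_pow_right (Nat.le_succ k) ((Submodule.Quotient.eq _).1 (congrFun (h k) j))
  let σl : L →ₗ[A] (Fin m → A) :=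
    { toFun := σ
      map_add' := fun x y => huniq _ _ fun n => by
        rw [hσ, map_add (mk n), hσ, hσ, map_add, map_add]
      map_smul' := fun a x => huniq _ _ fun n => by
        rw [hσ, RingHom.id_apply, map_smul (mk n), hσ, map_smul, map_smul] }
  refine Module.Projective.of_split σl G (LinearMap.ext fun x => ?_)
  refine sub_eq_zero.1 (hinj _ fun n => ?_)
  rw [LinearMap.comp_apply, LinearMap.id_apply, map_sub, ← hGb, show σl x = σ x from rfl, hσ,
    ← LinearMap.comp_apply (f := Gb n), (S n).2, LinearMap.id_apply, sub_self]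

end Proj

end Groth.Agent.InvSys
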